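import Cfsg.Agent.H613.KS.Defs
import Cfsg.Agent.H417.DegQuasi
import Cfsg.Agent.S2113
import Cfsg.Agent.S1152
import Cfsg.Agent.S1157

/-!
# S4577: Ree groups (helper277): the Sylow 2-subgroups have order 8, so there is no defect group of order 16
-/

set_option autoImplicit false

namespace Cfsg.Agent.H277.KS

open Cfsg Cfsg.Agent.H613.KS

universe u

variable {K : Type u} [Group K] [Finite K]

/-- **[row ree]** -/
theorem hz_ree (hK : IsQuasisimple K) (_hZ : Odd (Nat.card ↥(Subgroup.center K)))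
    (h : Lie.IsoRee (K ⧸ Subgroup.center K)) : HZ K := by
  have : Fact (Nat.Prime 2) := ⟨Nat.prime_two⟩
  obtain ⟨F, i1, i2, m, hm, hF, ⟨e⟩⟩ := h
  obtain ⟨f⟩ := Cfsg.Agent.H417.DegQuasi.equiv_of_multiplier (Cfsg.Agent.S2113.result hm hF)
    hK.1.commutator_eq_top e
  have hfin : Finite ↥(Cfsg.Lie.twistedG2 F (3 ^ m)) := Finite.of_equiv _ f.toEquiv
  intro M hM B hB D hD h16 χ hχ
  exfalso
  obtain ⟨a, haH, ha1, ha2⟩ := Cfsg.Agent.S1157.exists_involution hF
  obtain ⟨-, hS⟩ := Cfsg.Agent.S1152.result hF a haH ha1 ha2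
  obtain ⟨R⟩ : Nonempty (Sylow 2 ↥(Cfsg.Lie.twistedG2 F (3 ^ m))) := inferInstance
  obtain ⟨P⟩ : Nonempty (Sylow 2 K) := inferInstance
  have h8 : Nat.card P = 8 := by
    rw [← (hS R).1, P.card_eq_multiplicity, R.card_eq_multiplicity, Nat.card_congr f.toEquiv]
  have h1 : IsPGroup 2 D := IsPGroup.of_card (n := 4) (by rw [h16.card]; norm_num)
  obtain ⟨Q, hQ⟩ := h1.exists_le_sylow
  have h2 : Nat.card Q = 8 := by
    rw [← h8, P.card_eq_multiplicity, Q.card_eq_multiplicity]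
  have h3 := Subgroup.card_le_of_le hQ
  rw [h16.card] at h3
  have h4 : Nat.card ↥(Q : Subgroup K) = 8 := h2
  omega

end Cfsg.Agent.H277.KS
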